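import Cfsg.Agent.Recog.A8TN
import Cfsg.Agent.S1221
import Cfsg.Agent.S2119
import Cfsg.Agent.S3287
import Cfsg.Agent.Cor.OddSol
import Cfsg.Agent.Char.Burnside
import Cfsg.Agent.Local.InvolCount
import Cfsg.Agent.Block.ZhA7
import Cfsg.Agent.Class.PGL2Sub
import Cfsg.Agent.Bender.CoreBasic2
import Mathlib.GroupTheory.Perm.Centralizer

/-!
# Groups with Sylow 2-subgroup `2 × D₈` and an invariant subgroup of odd order
-/

set_option autoImplicit false

namespace Cfsg.Lib.A10T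

open Subgroup Equiv Cfsg.Lib.Trans Cfsg.Lib.Local Cfsg.Lib.Sig2 DihedralGroup

variable {Y : Type*} [Group Y]

theorem le_sup_of_pow [Finite Y] {S O C : Subgroup Y} (hS : IsSylowIn 2 S C) (hO : O ≤ C)
    (hn : C ≤ normalizer (O : Set Y)) (h : ∀ y ∈ C, y ^ 2 ^ 2 ∈ O) : C ≤ O ⊔ S := by
  have : (O.subgroupOf C).Normal := normal_subgroupOf_of_le_normalizer hn
  have h1 : IsPGroup 2 (C ⧸ O.subgroupOf C) := fun q => by
    obtain ⟨q, rfl⟩ := QuotientGroup.mk_surjective q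
    exact ⟨2, by rw [← QuotientGroup.mk_pow, QuotientGroup.eq_one_iff]; exact h q q.2⟩
  obtain ⟨k, hk⟩ := h1.exists_card_eq
  have h2 : (O ⊔ S).relIndex C ∣ 2 ^ k := hk ▸ relIndex_dvd_of_le_left C le_sup_left
  obtain ⟨j, -, hj⟩ := (Nat.dvd_prime_pow Nat.prime_two).1 h2
  have h3 := hS.not_dvd_relIndex_of_le (K := O ⊔ S) le_sup_right
  rcases j with _ | j
  · exact relIndex_eq_one.1 hj
  · exact absurd (hj ▸ dvd_pow_self 2 j.succ_ne_zero) h3

theorem solv_sup [Finite Y] {X N : Subgroup Y} (hn : N ≤ normalizer (X : Set Y))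
    (hX : Odd (Nat.card X)) (h : ∀ n ∈ N, n ^ 24 ∈ X) : Group.IsSolvable (X ⊔ N : Subgroup Y) := by
  have : (X.subgroupOf (X ⊔ N)).Normal :=
    normal_subgroupOf_of_le_normalizer (sup_le le_normalizer hn)
  refine Cor.isSolvable_of_normal_odd (X.subgroupOf (X ⊔ N))
    (by rwa [Nat.card_congr (subgroupOfEquivOfLe le_sup_left).toEquiv])
    (Char.isSolvable_of_prime_dvd_card Nat.prime_two Nat.prime_three _ fun r hr hd => ?_)
  have := Fact.mk hr
  obtain ⟨q, hq⟩ := exists_prime_orderOf_dvd_card' r hd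
  obtain ⟨q, rfl⟩ := QuotientGroup.mk_surjective q
  obtain ⟨x, hx, n, hn', e⟩ := (coe_mul_of_right_le_normalizer_left X N hn).le q.2
  have h1 : (q : (X ⊔ N : Subgroup Y) ⧸ X.subgroupOf (X ⊔ N)) =
      ((⟨n, mem_sup_right hn'⟩ : (X ⊔ N : Subgroup Y)) : _ ⧸ X.subgroupOf (X ⊔ N)) := by
    rw [show q = ⟨x, mem_sup_left hx⟩ * ⟨n, mem_sup_right hn'⟩ from Subtype.ext e.symm,
      QuotientGroup.mk_mul, (QuotientGroup.eq_one_iff _).2 (mem_subgroupOf.2 hx), one_mul]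
  have h2 : r ∣ 2 ^ 3 * 3 := hq ▸ orderOf_dvd_of_pow_eq_one (by
    rw [h1, ← QuotientGroup.mk_pow, QuotientGroup.eq_one_iff]; exact h n hn')
  exact ((Nat.Prime.dvd_mul hr).1 h2).imp
    (fun e => (Nat.prime_dvd_prime_iff_eq hr Nat.prime_two).1 (hr.dvd_of_dvd_pow e))
    (Nat.prime_dvd_prime_iff_eq hr Nat.prime_three).1

theorem card_cent_inv {c : Perm (Fin 7)} (h : orderOf c = 2) (hs : Perm.sign c = 1) :
    Nat.card (centralizer ({c} : Set (Perm (Fin 7)))) = 48 := by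
  obtain ⟨n, hn⟩ := Perm.cycleType_prime_order (σ := c) (h ▸ Nat.prime_two)
  have h1 := c.sum_cycleType_le
  have h2 := c.sign_of_cycleType
  rw [hn, h] at h1 h2
  simp only [Multiset.sum_replicate, smul_eq_mul, Fintype.card_fin, Multiset.card_replicate] at h1 h2
  rw [Perm.nat_card_centralizer, hn, h]
  obtain rfl | rfl | rfl : n = 0 ∨ n = 1 ∨ n = 2 := by omega
  · rw [hs] at h2; exact absurd h2 (by decide)
  · decide
  · decide

theorem cent_three {x : Perm (Fin 7)} (h : orderOf x = 3) {Q : Subgroup (Perm (Fin 7))}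
    (hQ : E8 Q) : ¬ Q ≤ centralizer {x} := fun hx => by
  obtain ⟨n, hn⟩ := Perm.cycleType_prime_order (σ := x) (h ▸ Nat.prime_three)
  have h1 := x.sum_cycleType_le
  have h2 := Perm.nat_card_centralizer x
  rw [hn, h] at h1 h2
  rw [h] at hn
  simp only [Multiset.sum_replicate, smul_eq_mul, Fintype.card_fin] at h1
  obtain ⟨S, hS, h3⟩ := exists_isSylowIn_ge hQ.1.isPGroup hx
  have h4 := hQ.2.trans (Trans.card_le_of_le h3)
  have h5 := hS.card_eq
  obtain rfl | rfl : n = 0 ∨ n = 1 := by omega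
  · rw [h2.trans (show _ = 72 by decide), show (72 : ℕ).factorization 2 = 3 by
      rw [← Nat.primeFactorsList_count_eq]; simp] at h5
    obtain ⟨g, rfl⟩ := isConj_iff.1 (Perm.isConj_iff_cycleType_eq.2
      ((show (swap 0 1 * swap 1 2 : Perm (Fin 7)).cycleType = _ by decide +kernel).trans hn.symm))
    obtain ⟨k, -, hk⟩ := (hS.of_card_ge hQ.1.isPGroup hx (h5 ▸ hQ.2)).exists_cj_le
      (Q := zpowers (g * (swap 3 4 * swap 4 5 * swap 5 6) * g⁻¹))
      (Recog.A8T.isPGroup_zpowers_of_pow (k := 2) (by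
        rw [conj_pow, conj_eq_one_iff]; decide))
      (zpowers_le.2 (mem_centralizer_singleton_iff.2 (by
        rw [conj_mul, conj_mul]; congr 2; decide)))
    have h6 := hQ.1 _ (cj_le_iff.1 hk _ (mem_zpowers _))
    rw [conj_mul, conj_mul, conj_eq_one_iff, conj_eq_one_iff] at h6
    exact absurd h6 (by decide)
  · rw [h2.trans (show _ = 18 by decide), show (18 : ℕ).factorization 2 = 1 by
      rw [← Nat.primeFactorsList_count_eq]; simp] at h5
    omega

theorem cent_or_inv [Finite Y] {X : Subgroup Y} (h : Nat.card X ∣ 3) {g : Y}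
    (hg : g ∈ normalizer (X : Set Y)) :
    (∀ x ∈ X, g * x * g⁻¹ = x) ∨ ∀ x ∈ X, g * x * g⁻¹ = x⁻¹ := by
  classical
  by_cases hb : X = ⊥
  · simp [hb]
  obtain ⟨⟨y, hy⟩, y1⟩ := ne_bot_iff_exists_ne_one.1 hb
  have y1 : y ≠ 1 := fun e => y1 (Subtype.ext e)
  have h1 : orderOf y = 3 := ((Nat.dvd_prime Nat.prime_three).1
    ((X.orderOf_dvd_natCard hy).trans h)).resolve_left fun e => y1 (orderOf_eq_one_iff.1 e)
  have h2 : ∀ x ∈ X, x = 1 ∨ x = y ∨ x = y⁻¹ := fun x hx => by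
    rw [← eq_of_le_of_card_ge (zpowers_le.2 hy) (by
      rw [Nat.card_zpowers, h1]; exact Nat.le_of_dvd (by decide) h),
      mem_zpowers_iff_mem_range_orderOf, h1] at hx
    obtain ⟨i, hi, rfl⟩ := Finset.mem_image.1 hx
    obtain rfl | rfl | rfl : i = 0 ∨ i = 1 ∨ i = 2 := by simp at hi; omega
    exacts [.inl (pow_zero _), .inr (.inl (pow_one _)), .inr (.inr (eq_inv_of_mul_eq_one_left (by
      rw [← pow_succ, ← pow_orderOf_eq_one y, h1])))]
  rcases h2 _ (mem_normalizer_conj hg hy) with e | e | e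
  · exact absurd (conj_eq_one_iff.1 e) y1
  · refine .inl fun x hx => ?_
    rcases h2 x hx with rfl | rfl | rfl
    exacts [by simp, e, by rw [← conj_inv, e]]
  · refine .inr fun x hx => ?_
    rcases h2 x hx with rfl | rfl | rfl
    exacts [by simp, e, by rw [← conj_inv, e]]

variable (Y) in
/-- The hypotheses on a group with Sylow 2-subgroup `2 × D₈`. -/
structure DH where
  δ : DihedralGroup 4 →* Y
  inj : Function.Injective δ
  a : Y
  σ : Y
  ρ : Y
  J : Subgroup Y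
  X : Subgroup Y
  a2 : a * a = 1
  aδ : ∀ s, a * δ s = δ s * a
  σc : σ * δ (r 2) * σ⁻¹ = δ (sr 2)
  σb : σ * δ (sr 0) * σ⁻¹ = δ (sr 0)
  ρc : ρ * δ (r 2) * ρ⁻¹ = δ (sr 1)
  ρd : ρ * δ (sr 1) * ρ⁻¹ = δ (r 2)
  Jn : J.Normal
  cJ : δ (r 2) ∈ J
  aJ : a ∉ J
  XJ : X ≤ J
  core : oddCore Y = ⊥
  syl : IsSylowIn 2 (δ.range ⊔ zpowers a) ⊤
  odd : Odd (Nat.card X)
  δX : ∀ s, δ s ∈ normalizer (X : Set Y)
  aX : a ∈ normalizer (X : Set Y)
  σX : σ ∈ normalizer (X : Set Y)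
  hX : ∀ y ∈ centralizer {δ (r 2)}, y ^ 2 ^ 2 ∈ X
  n1 : ¬ IsConj (a * δ (r 2)) (a * δ (sr 3))
  n2 : ¬ IsConj a (a * δ (sr 2))

/-- The involutions of the first four-group. -/
def vv : Fin 3 → DihedralGroup 4 := ![r 2, sr 0, sr 2]

namespace DH

variable (D : DH Y)

/-- `g` moves `u` to `v`. -/
def Mv (g : Y) (u v : DihedralGroup 4) : Prop := g * D.δ u * g⁻¹ = D.δ v

theorem mv_of {s u v : DihedralGroup 4} (h : s * u * s⁻¹ = v := by decide) : D.Mv (D.δ s) u v := by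
  rw [Mv, ← h, map_mul, map_mul, map_inv]

variable {D} in
theorem Mv.mul {g : Y} {u v u' v' w w' : DihedralGroup 4} (h1 : D.Mv g u v) (h2 : D.Mv g u' v')
    (e1 : u * u' = w := by decide) (e2 : v * v' = w' := by decide) : D.Mv g w w' := by
  rw [Mv, ← e1, ← e2, map_mul, map_mul, ← conj_mul, h1, h2]

variable {D} in
theorem Mv.comp {g h : Y} {u v w : DihedralGroup 4} (h1 : D.Mv g u v) (h2 : D.Mv h v w) :
    D.Mv (h * g) u w := by
  rw [Mv, ← h2, ← h1]; group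

variable {D} in
theorem Mv.inv {g : Y} {u v : DihedralGroup 4} (h1 : D.Mv g u v) : D.Mv g⁻¹ v u := by
  rw [Mv, ← h1]; group

/-- The action on the first four-group. -/
def Ac (n : Y) (π : Perm (Fin 3)) : Prop := ∀ i, D.Mv n (vv i) (vv (π i))

variable {D} in
theorem Ac.mul {n m : Y} {π σ : Perm (Fin 3)} (h1 : D.Ac n π) (h2 : D.Ac m σ) :
    D.Ac (n * m) (π * σ) := fun i => (h2 i).comp (h1 _)

variable {D} in
theorem Ac.pow {n : Y} {π : Perm (Fin 3)} (h1 : D.Ac n π) (k : ℕ) : D.Ac (n ^ k) (π ^ k) := by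
  induction k with
  | zero => intro i; simp [Mv]
  | succ k ih => rw [pow_succ, pow_succ]; exact ih.mul h1

/-- The normalizer of the first four-group. -/
def N0 : Subgroup Y where
  carrier := {n | ∃ π, D.Ac n π}
  mul_mem' := fun ⟨_, h1⟩ ⟨_, h2⟩ => ⟨_, h1.mul h2⟩
  one_mem' := ⟨1, fun i => by simp [Mv]⟩
  inv_mem' := fun ⟨π, h1⟩ => ⟨π⁻¹, fun i => by simpa using (h1 (π⁻¹ i)).inv⟩

theorem δ_N0 (s : DihedralGroup 4) : D.δ s ∈ D.N0 :=
  ((by decide : ∀ s : DihedralGroup 4, ∃ π : Perm (Fin 3), ∀ i, s * vv i * s⁻¹ = vv (π i)) s).imp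
    fun _ h i => D.mv_of (h i)

/-- An involution exchanging `b` and `c`. -/
def e : Y := D.σ * (D.δ (sr 1) * D.σ⁻¹)

/-- An involution exchanging `c` and `d c`. -/
def e' : Y := D.ρ * (D.δ (sr 0) * D.ρ⁻¹)

theorem ac_e : D.Ac D.e (swap 0 1) := by
  have h1 : D.Mv D.σ (r 2) (sr 2) := D.σc
  have h2 : D.Mv D.σ (sr 0) (sr 0) := D.σb
  have h3 : D.Mv D.σ (sr 2) (r 2) := h2.mul h1
  intro i
  fin_cases i
  exacts [(h3.inv.comp (D.mv_of (v := sr 0))).comp h2, (h2.inv.comp (D.mv_of (v := sr 2))).comp h3,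
    (h1.inv.comp (D.mv_of (v := r 2))).comp h1]

theorem mv_e' : D.Mv D.e' (r 2) (sr 3) := by
  have h1 : D.Mv D.ρ (r 2) (sr 1) := D.ρc
  have h2 : D.Mv D.ρ (sr 1) (r 2) := D.ρd
  exact (h2.inv.comp (D.mv_of (v := sr 3))).comp (h2.mul h1)

theorem ac_w : D.Ac (D.δ (sr 1) * D.e) (swap 1 2 * swap 0 1) :=
  Ac.mul (fun i => D.mv_of (by revert i; decide)) D.ac_e

theorem memP {x : Y} (h : x ∈ D.δ.range ⊔ zpowers D.a) : ∃ s, x = D.δ s ∨ x = D.δ s * D.a := by
  obtain ⟨_, ⟨s, rfl⟩, y, hy, rfl⟩ := (coe_mul_of_right_le_normalizer_left _ _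
    (show zpowers D.a ≤ normalizer (D.δ.range : Set Y) from zpowers_le.2
      (centralizer_le_normalizer _ (mem_centralizer_iff.2 (by
        rintro _ ⟨s, rfl⟩; exact (D.aδ s).symm))))).le h
  rcases mem_zpowers_of_mul_self D.a2 hy with rfl | rfl
  exacts [⟨s, .inl (mul_one _)⟩, ⟨s, .inr rfl⟩]

theorem δ_mem {N : Subgroup Y} [hN : N.Normal] (h : D.δ (r 2) ∈ N) (s : DihedralGroup 4) :
    D.δ s ∈ N := by
  have h1 : D.δ (sr 1) ∈ N := D.ρc ▸ hN.conj_mem _ h _
  have h2 : D.δ (sr 2) ∈ N := D.σc ▸ hN.conj_mem _ h _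
  obtain ⟨i, j, rfl⟩ := (by decide : ∀ s : DihedralGroup 4, ∃ i j : Fin 4,
    s = sr 1 ^ i.1 * (sr 1 * sr 2) ^ j.1) s
  simp only [map_mul, map_pow]
  exact mul_mem (pow_mem h1 _) (pow_mem (mul_mem h1 h2) _)

theorem e_mem {N : Subgroup Y} [hN : N.Normal] (h : D.δ (r 2) ∈ N) : D.e ∈ N ∧ D.e' ∈ N :=
  ⟨by rw [e, ← mul_assoc]; exact hN.conj_mem _ (D.δ_mem h _) _,
    by rw [e', ← mul_assoc]; exact hN.conj_mem _ (D.δ_mem h _) _⟩

theorem e_X : D.e ∈ normalizer (D.X : Set Y) := mul_mem D.σX (mul_mem (D.δX _) (inv_mem D.σX))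

theorem cj_c {N : Subgroup Y} (h1 : ∀ s, D.δ s ∈ N) (h2 : D.e ∈ N) (h3 : D.e' ∈ N)
    {s : DihedralGroup 4} (h : orderOf (D.δ s) = 2) : ∃ k ∈ N, D.Mv k (r 2) s := by
  have k1 : s * s = 1 := D.inj (by simpa using SE.mul_self_of_orderOf_two h)
  have k2 : s ≠ 1 := fun e => by simp [e] at h
  obtain rfl | rfl | rfl | rfl | rfl := (by decide : ∀ s : DihedralGroup 4, s * s = 1 → s ≠ 1 →
    s = r 2 ∨ s = sr 0 ∨ s = sr 2 ∨ s = sr 3 ∨ s = sr 1) s k1 k2
  exacts [⟨1, one_mem _, by simp [Mv]⟩, ⟨_, h2, D.ac_e 0⟩, ⟨_, mul_mem (h1 _) h2, D.ac_w 0⟩,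
    ⟨_, h3, D.mv_e'⟩, ⟨_, mul_mem (h1 (sr 0)) h3, D.mv_e'.comp D.mv_of⟩]

theorem ord_c : orderOf (D.δ (r 2)) = 2 := by
  rw [orderOf_injective _ D.inj]; exact orderOf_eq_prime (by decide) (by decide)

theorem δ_c (s : DihedralGroup 4) : D.δ s ∈ centralizer {D.δ (r 2)} :=
  mem_centralizer_singleton_iff.2 (by
    rw [← map_mul, ← map_mul]; congr 1; revert s; decide)

/-- The normal closure of the dihedral factor. -/
abbrev L : Subgroup Y := normalClosure {D.δ (r 2)}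

theorem c_L : D.δ (r 2) ∈ D.L := subset_normalClosure rfl

variable [Finite Y]

theorem sylN {N : Subgroup Y} [N.Normal] (h : D.δ (r 2) ∈ N) (hJ : N ≤ D.J) :
    IsSylowIn 2 D.δ.range N := by
  have := D.Jn
  convert D.syl.inf_normal_of_le (N := N) (by rw [normalizer_eq_top]) le_top
  refine le_antisymm (le_inf le_sup_left (by rintro _ ⟨s, rfl⟩; exact D.δ_mem h s)) fun x hx => ?_
  obtain ⟨s, rfl | rfl⟩ := D.memP hx.1
  exacts [⟨s, rfl⟩, absurd ((mul_mem_cancel_left (D.δ_mem D.cJ s)).1 (hJ hx.2)) D.aJ]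

theorem sylL : IsSylowIn 2 D.δ.range D.L :=
  have := D.Jn
  D.sylN D.c_L (normalClosure_le_normal (by rintro _ rfl; exact D.cJ))

theorem cj_L {u : Y} (hu : u ∈ D.L) (h : orderOf u = 2) :
    ∃ k ∈ D.L, k * D.δ (r 2) * k⁻¹ = u := by
  obtain ⟨k, hk, h1⟩ := D.sylL.exists_cj_le (El.zpowers (SE.mul_self_of_orderOf_two h)).isPGroup
    (zpowers_le.2 hu)
  obtain ⟨s, hs⟩ := cj_le_iff.1 h1 _ (mem_zpowers _)
  obtain ⟨m, hm, h2⟩ := D.cj_c (D.δ_mem D.c_L) (D.e_mem D.c_L).1 (D.e_mem D.c_L).2 (s := s) (by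
    rw [hs, ← h]; exact (MulAut.conj k).orderOf_eq u)
  refine ⟨k⁻¹ * m, mul_mem (inv_mem hk) hm, ?_⟩
  rw [show k⁻¹ * m * D.δ (r 2) * (k⁻¹ * m)⁻¹ = k⁻¹ * (m * D.δ (r 2) * m⁻¹) * k by group, h2, hs]
  group

include D in
theorem core_N (N : Subgroup Y) [hN : N.Normal] : oddCore N = ⊥ :=
  Solv.pPrimeCore_eq_bot_of_isSubnormal hN.isSubnormal D.core

theorem simple : IsSimpleGroup D.L := by
  have : Nontrivial D.L := (Subgroup.nontrivial_iff_ne_bot _).2 fun e => by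
    have := D.ord_c
    rw [show D.δ (r 2) = 1 from mem_bot.1 (e ▸ D.c_L), orderOf_one] at this
    omega
  refine ⟨fun N hN => ?_⟩
  by_cases h : 2 ∣ Nat.card N
  · obtain ⟨u, hu⟩ := exists_prime_orderOf_dvd_card' 2 h
    obtain ⟨k, hk, h1⟩ := D.cj_L u.1.2 (by simpa using hu)
    refine .inr (top_le_iff.1 fun x _ => ?_)
    refine (mem_map_iff_mem D.L.subtype_injective).1 ((closure_le (N.map D.L.subtype)).2
      (fun y hy => ?_) x.2)
    have h2 := conjugatesOfSet_subset_normalClosure hy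
    obtain ⟨_, rfl, g, hg⟩ : ∃ a ∈ ({D.δ (r 2)} : Set Y), ∃ g, g * a * g⁻¹ = y := by
      simpa [isConj_iff] using Group.mem_conjugatesOfSet_iff.1 hy
    obtain ⟨m, hm, h3⟩ := D.cj_L h2 (hg ▸ ((MulAut.conj g).orderOf_eq _).trans D.ord_c)
    refine ⟨_, hN.conj_mem _ u.2 ⟨m * k⁻¹, mul_mem hm (inv_mem hk)⟩, ?_⟩
    change m * k⁻¹ * u.1.1 * (m * k⁻¹)⁻¹ = y
    rw [← h1, ← h3]; group
  · exact .inl (le_bot_iff.1 (D.core_N D.L ▸ Solv.le_pPrimeCore hN
      ((Nat.coprime_two_right).2 (Nat.odd_iff.2 (by omega)))))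

theorem mem_X {y : Y} (hy : y ∈ centralizer {D.δ (r 2)}) (h : Odd (orderOf y)) : y ∈ D.X :=
  zpowers_le.2 (D.hX y hy) (mem_zpowers_pow_iff.2 (Nat.Coprime.pow_left 2
    (Nat.coprime_two_left.2 h)))

theorem eq_bot (h : D.X ≤ centralizer D.δ.range) : D.X = ⊥ := by
  have := D.Jn
  have k : ∀ g s, D.Mv g s (r 2) → g ∈ normalizer (D.X : Set Y) := fun g s hg =>
    mem_normalizer_of_cj_le (cj_le_iff.2 fun x hx => D.mem_X (mem_centralizer_singleton_iff.2 (by
      rw [← hg, conj_mul, conj_mul, h hx _ ⟨s, rfl⟩])) (by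
        rw [show orderOf (g * x * g⁻¹) = _ from (MulAut.conj g).orderOf_eq x]
        exact D.odd.of_dvd_nat (D.X.orderOf_dvd_natCard hx)))
  have k1 : centralizer {D.δ (r 2)} ≤ normalizer (D.X : Set Y) := fun g hg =>
    k g _ (mul_inv_eq_iff_eq_mul.2 (mem_centralizer_singleton_iff.1 hg))
  have k2 : D.e' ∈ normalizer (D.X : Set Y) :=
    mul_mem (k _ _ D.ρd) (mul_mem (D.δX _) (inv_mem (k _ _ D.ρd)))
  let H := (normalizer (D.X : Set Y)).subgroupOf D.J
  have k3 : D.X.subgroupOf D.J ≤ ppCoreOf 2 H :=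
    Solv.le_map_pPrimeCore (comap_mono le_normalizer) (le_normalizer_comap _) (by
      rw [Nat.card_congr (subgroupOfEquivOfLe D.XJ).toEquiv]; exact Nat.coprime_two_right.2 D.odd)
  have k4 : ppCoreOf 2 H ≤ oddCore D.J := by
    by_cases hH : H = ⊤
    · rw [hH, ppCoreOf_top]
    refine Agent.S1221.result H (isStronglyEmbedded_iff_se.2 (SE.of_centralizer_normalizer hH
      (D.sylN D.cJ le_rfl).toSylow (fun g hg => k1 ?_) fun x hx h2 g hg => ?_))
    · obtain ⟨v, hv⟩ := mem_normalizer_conj hg (x := ⟨_, D.cJ⟩) ⟨_, rfl⟩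
      have h1 : D.Mv g (r 2) v := hv.symm
      have h3 : ∀ s, v * s = s * v := fun s => by
        obtain ⟨w, hw⟩ := mem_normalizer_conj' hg (x := ⟨_, D.δ_mem D.cJ s⟩) ⟨_, rfl⟩
        have h2 : D.Mv g w s := by rw [Mv, hw]; simp [mul_assoc]
        exact D.inj ((h1.mul h2 rfl rfl).symm.trans (h2.mul h1 (by clear h2 hw; revert w; decide) rfl))
      obtain rfl := (by decide : ∀ v : DihedralGroup 4, v ≠ 1 → (∀ s, v * s = s * v) → v = r 2) v
        (fun e => by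
          rw [e, Mv, map_one, conj_eq_one_iff] at h1
          simpa [h1] using D.ord_c) h3
      exact mem_centralizer_singleton_iff.2 (mul_inv_eq_iff_eq_mul.1 h1)
    · obtain ⟨s, hs⟩ := hx
      obtain ⟨m, hm, h3⟩ := D.cj_c D.δX D.e_X k2 (s := s) (by rw [hs]; simpa using h2)
      refine cj_le_of_mem_of_le hm k1 (x := g) ?_
      rw [cj_centralizer_sing, h3, hs]
      exact mem_centralizer_singleton_iff.2 (congrArg Subtype.val
        (mem_centralizer_singleton_iff.1 hg))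
  rw [← map_subgroupOf_eq_of_le D.XJ, le_bot_iff.1 ((k3.trans k4).trans (D.core_N D.J).le),
    Subgroup.map_bot]

theorem card24 {X K : Subgroup Y} (hX : Odd (Nat.card X)) (hK : K ≤ normalizer (X : Set Y))
    (hXK : X ≤ K) (hδ : ∀ s, D.δ s ∈ K) (he : D.e ∈ K) : 24 * Nat.card X ∣ Nat.card K := by
  have : (X.subgroupOf K).Normal := normal_subgroupOf_of_le_normalizer hK
  rw [card_eq_card_quotient_mul_card_subgroup (X.subgroupOf K),
    Nat.card_congr (subgroupOfEquivOfLe hXK).toEquiv]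
  refine Nat.mul_dvd_mul_right (Nat.Coprime.mul_dvd_of_dvd_of_dvd (m := 8) (n := 3) (by decide)
    ?_ ?_) _
  · have := card_dvd_of_injective ((QuotientGroup.mk' (X.subgroupOf K)).comp (D.δ.codRestrict K hδ))
      ((injective_iff_map_eq_one _).2 fun s hs => D.inj (by
        have h1 : D.δ s ∈ X := (QuotientGroup.eq_one_iff (N := X.subgroupOf K) _).1 hs
        rw [map_one]
        refine Bender.eq_one_of_mem_of_odd hX h1 (Bender.eq_one_of_mem_of_odd hX (mul_mem h1 h1) ?_)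
        rw [← map_mul, ← map_mul, show s * s * (s * s) = 1 by clear h1 hs; revert s; decide, map_one]))
    rwa [DihedralGroup.nat_card] at this
  · have h1 : (D.δ (sr 1) * D.e) ^ Nat.card (K ⧸ X.subgroupOf K) ∈ X :=
      (QuotientGroup.eq_one_iff (N := X.subgroupOf K) (⟨_, mul_mem (hδ _) he⟩ ^ _)).1 (by
        rw [QuotientGroup.mk_pow, pow_card_eq_one'])
    generalize Nat.card (K ⧸ X.subgroupOf K) = n at h1
    have h2 := D.ac_w.pow n 0
    rw [pow_eq_pow_mod n (show (swap 1 2 * swap 0 1 : Perm (Fin 3)) ^ 3 = 1 by decide)] at h2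
    have h3 := mul_mem h1 (mem_normalizer_conj (hK (hδ (vv 0))) (inv_mem h1))
    rw [← mul_assoc, ← mul_assoc, h2, ← map_inv, ← map_mul] at h3
    have h4 := D.inj ((Bender.eq_one_of_mem_of_odd hX h3 (by
      rw [← map_mul, (by decide : ∀ i, vv i * (vv 0)⁻¹ * (vv i * (vv 0)⁻¹) = 1), map_one])).trans
        (map_one _).symm)
    obtain h | h | h : n % 3 = 0 ∨ n % 3 = 1 ∨ n % 3 = 2 := by omega
    exacts [Nat.dvd_of_mod_eq_zero h, absurd (h ▸ h4) (by decide), absurd (h ▸ h4) (by decide)]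

theorem norm_XL {g : Y} (h : g ∈ normalizer (D.X : Set Y)) :
    g ∈ normalizer ((D.X ⊓ D.L : Subgroup Y) : Set Y) :=
  Solv.le_normalizer_inf le_rfl (le_top.trans (normalizer_eq_top D.L).ge) h

theorem cases : Nonempty (D.L ≃* alternatingGroup (Fin 7)) ∨ Nat.card D.L = 168 ∨
    Nat.card D.L = 360 := by
  have := D.simple
  set N := D.N0 ⊓ D.L ⊓ normalizer ((D.X ⊓ D.L : Subgroup Y) : Set Y) with hN
  have h1 : D.X ⊓ D.L ⊔ N ≤ D.L := sup_le inf_le_right (inf_le_left.trans inf_le_right)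
  have h2 : D.δ.range ≤ N := by
    rintro _ ⟨s, rfl⟩; exact ⟨⟨D.δ_N0 s, D.δ_mem D.c_L s⟩, D.norm_XL (D.δX s)⟩
  have hs := solv_sup (X := D.X ⊓ D.L) (N := N) inf_le_right
    (D.odd.of_dvd_nat (card_dvd_of_le inf_le_left)) fun n hn => ⟨by
      obtain ⟨π, hπ⟩ := hn.1.1
      have h3 := hπ.pow 6 0
      rw [(by decide +kernel : ∀ π : Perm (Fin 3), π ^ 6 = 1)] at h3
      rw [show 24 = 6 * 2 ^ 2 from rfl, pow_mul]
      exact D.hX _ (mem_centralizer_singleton_iff.2 (mul_inv_eq_iff_eq_mul.1 h3)),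
      pow_mem hn.1.2 _⟩
  have : Group.IsSolvable ((D.X ⊓ D.L ⊔ N).subgroupOf D.L) :=
    Group.isSolvable_of_isSolvable_injective (f := (subgroupOfEquivOfLe h1).toMonoidHom)
      (MulEquiv.injective _)
  have h3 : centralizer {D.δ (r 2)} ⊓ D.L ≤ D.X ⊓ D.L ⊔ N := by
    have k : D.δ.range ≤ centralizer {D.δ (r 2)} ⊓ D.L :=
      le_inf (by rintro _ ⟨s, rfl⟩; exact D.δ_c s) D.sylL.le
    refine (le_sup_of_pow (O := D.X ⊓ (centralizer {D.δ (r 2)} ⊓ D.L)) (D.sylL.mono k inf_le_right)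
      inf_le_right (fun y hy => mem_normalizer_of_cj_le (cj_le_iff.2 fun x hx => ?_))
      fun y hy => ⟨D.hX y hy.1, pow_mem hy _⟩).trans
        (sup_le_sup (inf_le_inf_left _ inf_le_right) h2)
    have h4 := mul_mem (mul_mem hy hx.2) (inv_mem hy)
    refine ⟨D.mem_X h4.1 ?_, h4⟩
    rw [show orderOf (y * x * y⁻¹) = _ from (MulAut.conj y).orderOf_eq x]
    exact D.odd.of_dvd_nat (D.X.orderOf_dvd_natCard hx.1)
  have h8 : 8 ∣ Nat.card D.L := by
    have := card_dvd_of_le D.sylL.le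
    rwa [← Nat.card_congr (MonoidHom.ofInjective D.inj).toEquiv, DihedralGroup.nat_card] at this
  obtain ⟨⟨f⟩⟩ | h | ⟨F, _, _, hF, ⟨f⟩⟩ | ⟨F, _, _, hF, ⟨f⟩⟩ := Agent.S3287.result
    D.sylL.toSylow 4 ((subgroupOfEquivOfLe D.sylL.le).trans (MonoidHom.ofInjective D.inj).symm)
    ⟨_, D.c_L⟩ (by simpa using D.ord_c) ((D.X ⊓ D.L ⊔ N).subgroupOf D.L)
    (lt_of_le_of_ne (fun y hy => h3 ⟨mem_centralizer_singleton_iff.2 (congrArg Subtype.val
      (mem_centralizer_singleton_iff.1 hy)), y.2⟩) fun e => by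
        have h4 : (⟨_, (D.e_mem D.c_L).1⟩ : D.L) ∈ (D.X ⊓ D.L ⊔ N).subgroupOf D.L :=
          mem_sup_right ⟨⟨⟨_, D.ac_e⟩, (D.e_mem D.c_L).1⟩, D.norm_XL D.e_X⟩
        rw [← e, mem_centralizer_singleton_iff] at h4
        have h5 : D.e * D.δ (vv 0) = D.δ (vv 0) * D.e := congrArg Subtype.val h4
        exact absurd (D.inj ((D.ac_e 0).symm.trans (mul_inv_eq_iff_eq_mul.2 h5))) (by decide))
    (by unfold generalizedFittingSubgroup; rw [layer_eq_bot_of_isSolvable, bot_sup_eq])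
  · rw [Nat.card_congr f.toEquiv, nat_card_alternatingGroup, Nat.card_fin] at h8
    exact absurd h8 (by decide)
  · exact .inl h
  · have := Block.Zh.gcd_mul_card_psl3 F
    rw [hF, ← Nat.card_congr f.toEquiv] at this
    exact .inr (.inl (by simpa using this))
  · have := Class.gcd_mul_card_PSL2 (F := F)
    rw [Nat.card_eq_fintype_card, hF, ← Nat.card_congr f.toEquiv] at this
    norm_num at this
    exact .inr (.inr (by omega))

theorem small (h : Nat.card D.L = 168 ∨ Nat.card D.L = 360) : D.X = ⊥ := by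
  have := D.simple
  have h0 : Odd (Nat.card (D.X ⊓ D.L : Subgroup Y)) := D.odd.of_dvd_nat (card_dvd_of_le inf_le_left)
  have h1 : D.X ⊓ D.L = ⊥ := by
    by_contra hn
    set K := normalizer ((D.X ⊓ D.L : Subgroup Y) : Set Y) ⊓ D.L
    obtain ⟨j, hj⟩ := D.card24 (K := K) h0 inf_le_left (le_inf le_normalizer inf_le_right)
      (fun s => ⟨D.norm_XL (D.δX s), D.δ_mem D.c_L s⟩) ⟨D.norm_XL D.e_X, (D.e_mem D.c_L).1⟩
    have h2 := card_dvd_factorial_index (H := K.subgroupOf D.L) fun e => by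
      rcases (normal_subgroupOf_of_le_normalizer ((subgroupOf_eq_top.1 e).trans inf_le_left) :
        ((D.X ⊓ D.L).subgroupOf D.L).Normal).eq_bot_or_eq_top with e | e
      · exact hn (le_bot_iff.1 ((le_inf le_rfl inf_le_right).trans (subgroupOf_eq_bot.1 e).le_bot))
      · have := Bender.eq_one_of_mem_of_odd h0 (subgroupOf_eq_top.1 e D.c_L)
          (SE.mul_self_of_orderOf_two D.ord_c)
        simpa [this] using D.ord_c
    have h3 := (K.subgroupOf D.L).index_mul_card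
    rw [Nat.card_congr (subgroupOfEquivOfLe inf_le_right).toEquiv, hj] at h3
    have h4 : Nat.card (D.X ⊓ D.L : Subgroup Y) ≠ 1 := fun e => hn (card_eq_one.1 e)
    have h5 : 3 * 1 ≤ Nat.card (D.X ⊓ D.L : Subgroup Y) * j := Nat.mul_le_mul
      (by obtain ⟨k, hk⟩ := h0; omega) (Nat.pos_of_ne_zero (by rintro rfl; omega))
    rw [mul_assoc] at h3
    have h6 := h2.trans (Nat.factorial_dvd_factorial (show _ ≤ 5 by rcases h with h | h <;> nlinarith))
    rcases h with h | h <;> exact absurd (h ▸ h6) (by decide)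
  refine D.eq_bot fun x hx => mem_centralizer_of_conj_eq ?_
  rintro _ ⟨s, rfl⟩
  refine mul_inv_eq_one.1 (mem_bot.1 (h1.le (mem_inf.2 ⟨?_, mul_mem (normalClosure_normal.conj_mem _
    (D.δ_mem D.c_L s) x) (inv_mem (D.δ_mem D.c_L s))⟩)))
  simpa [mul_assoc] using mul_mem hx (mem_normalizer_conj (D.δX s) (inv_mem hx))

theorem cent_L : centralizer (D.L : Set Y) = ⊥ := by
  have h1 := D.syl.inf_normal_of_le (N := centralizer (D.L : Set Y)) (by rw [normalizer_eq_top])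
    le_top
  have h2 : (D.δ.range ⊔ zpowers D.a) ⊓ centralizer (D.L : Set Y) = ⊥ := by
    refine eq_bot_iff.2 fun x hx => ?_
    have k : ∀ y ∈ D.L, y * x * y⁻¹ = x := fun y hy => mul_inv_eq_iff_eq_mul.2 (hx.2 y hy)
    have z : ∀ s : DihedralGroup 4, (∀ u, u * s * u⁻¹ = s) → s = 1 ∨ s = r 2 := by decide
    obtain ⟨s, rfl | rfl⟩ := D.memP hx.1
    · obtain rfl | rfl := z s fun u => D.inj ((D.mv_of rfl).symm.trans (k _ (D.δ_mem D.c_L u)))
      · simp
      · exact absurd (D.inj ((D.ac_e 0).symm.trans (k _ (D.e_mem D.c_L).1))) (by decide)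
    · obtain rfl | rfl := z s fun u => D.inj ((D.mv_of rfl).symm.trans (mul_right_cancel (b := D.a)
        (Eq.trans (by rw [mul_assoc, ← map_inv, ← D.aδ]; group) (k _ (D.δ_mem D.c_L u)))))
      · rw [map_one, one_mul] at k
        exact absurd (isConj_iff.2 ⟨D.e', by rw [← conj_mul, k _ (D.e_mem D.c_L).2, D.mv_e']⟩) D.n1
      · refine absurd (isConj_iff.2 ⟨D.e, ?_⟩) D.n2
        have e1 := congrArg₂ (· * ·) (D.ac_e 0) (k _ (D.e_mem D.c_L).1)
        simp only [conj_mul] at e1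
        rw [← mul_assoc (D.δ _), ← map_mul, show vv 0 * r 2 = 1 by decide, map_one, one_mul] at e1
        rw [e1, D.aδ, ← mul_assoc, ← map_mul]; rfl
  exact le_bot_iff.1 (D.core ▸ Solv.le_pPrimeCore inferInstance
    (Nat.coprime_two_right.2 (Nat.odd_iff.2 (by have := h1.eq_bot_iff.1 h2; omega))))

theorem seven (f : D.L ≃* alternatingGroup (Fin 7)) :
    Nat.card D.X ∣ 3 ∧ ∀ x ∈ D.X, D.a * x = x * D.a → D.δ (sr 0) * x = x * D.δ (sr 0) →
      D.δ (r 2) * x = x * D.δ (r 2) → x = 1 := by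
  obtain ⟨φ, hφ⟩ : ∃ φ : Y →* Perm (Fin 7), Function.Injective φ :=
    ⟨(((MulAut.congr f).trans (MulEquiv.ofBijective _ (Agent.S2119.result 7 (by decide)
      (by decide))).symm).toMonoidHom).comp MulAut.conjNormal, by
        rw [MonoidHom.coe_comp]
        exact (MulEquiv.injective _).comp ((injective_iff_map_eq_one (MulAut.conjNormal (H := D.L))).2
          fun y hy => mem_bot.1 (D.cent_L.le (mem_centralizer_of_conj_eq fun a ha =>
            (MulAut.conjNormal_apply y ⟨a, ha⟩).symm.trans (by rw [hy]; rfl))))⟩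
  have q : ∀ i, D.δ (vv i) * D.δ (vv i) = 1 := fun i => by
    rw [← map_mul, (by decide : ∀ i, vv i * vv i = 1), map_one]
  have n : ∀ i, D.δ (vv i) ≠ 1 := fun i e => (by decide : ∀ i, vv i ≠ 1) i
    (D.inj (e.trans (map_one _).symm))
  have c : D.δ (vv 1) * D.δ (vv 0) = D.δ (vv 0) * D.δ (vv 1) := by rw [← map_mul, ← map_mul]; rfl
  have d : D.δ (vv 1) ≠ D.δ (vv 0) := D.inj.ne (by decide)
  have h3 : Nat.card D.X ∣ 3 := by
    have h1 : 24 * Nat.card D.X ∣ 24 * 210 := ((D.card24 D.odd le_rfl le_normalizer D.δX D.e_X).trans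
      (card_subgroup_dvd_card _)).trans ((card_dvd_of_injective φ hφ).trans (by
        rw [Nat.card_perm, Nat.card_fin]; decide))
    have h2 := Nat.eq_prime_pow_of_unique_prime_dvd (n := Nat.card D.X) (p := 3) Nat.card_pos.ne'
      fun {p} hp hd => by
        by_contra h3
        have := Fact.mk hp
        have h4 := e4_V2 (q 1) (q 0) c (n 1) (n 0) d
        obtain ⟨P, hP, -, h5⟩ := Bender.exists_inv_sylow (p := p) (R := ⊥) D.odd h4.1.isPGroup
          (V2_le (D.δX _) (D.δX _)) bot_le IsPGroup.of_bot (by rw [Gold.Ns, normalizer_eq_top]; exact le_top)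
        refine hP.eq_bot_iff.1 (le_bot_iff.1 (h4.le_of_forall
          (D.odd.of_dvd_nat (card_dvd_of_le hP.le)) h5 fun v hv v1 y hy => ?_)) hd
        have h6 : Perm.sign (φ v) = 1 := by
          have k : Perm.sign (φ (D.δ (r 2))) = 1 := by
            rw [show (r 2 : DihedralGroup 4) = r 1 * r 1 from rfl, map_mul, map_mul, map_mul,
              Int.units_mul_self]
          have k' : Perm.sign (φ (D.δ (vv 1))) = 1 := by
            rw [← show _ = D.δ (vv 1) from D.ac_e 0]; simp [show vv 0 = r 2 from rfl, k]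
          rcases Bender.mem_closure_pair_of_commute (q 1) (q 0) c hv with e | e | e | e <;>
            simp [e, k', show vv 0 = r 2 from rfl, k]
        have h7 : orderOf y ∣ 2 ^ 4 * 3 := by
          rw [← orderOf_injective φ hφ, show 2 ^ 4 * 3 = 48 from rfl, ← card_cent_inv
            ((orderOf_injective φ hφ v).trans (h4.1.orderOf_eq hv v1)) h6]
          exact orderOf_dvd_natCard _ (mem_centralizer_singleton_iff.2 (by
            rw [← map_mul, mem_centralizer_singleton_iff.1 hy.2, map_mul]))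
        obtain ⟨k, hk⟩ := IsPGroup.iff_orderOf.1 hP.isPGroup ⟨y, hy.1⟩
        rw [← Subgroup.orderOf_coe] at hk
        refine orderOf_eq_one_iff.1 (Nat.Coprime.eq_one_of_dvd (Nat.Coprime.mul_right
          (Nat.Coprime.pow_right _ (Nat.coprime_two_right.2 (D.odd.of_dvd_nat
            (D.X.orderOf_dvd_natCard (hP.le hy.1))))) ?_) h7)
        rw [show orderOf y = _ from hk]
        exact ((Nat.coprime_primes hp Nat.prime_three).2 h3).pow_left _
    generalize (Nat.card D.X).primeFactorsList.length = k at h2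
    rw [h2] at h1 ⊢
    rcases k with _ | _ | k
    exacts [by decide, by decide, absurd (((pow_dvd_pow 3 (show 2 ≤ k + 1 + 1 by omega)).trans
      (Nat.dvd_of_mul_dvd_mul_left (by decide) h1))) (by decide)]
  refine ⟨h3, fun x hx h1 h2 h4 => by_contra fun x1 => ?_⟩
  have m : ∀ {u v : Y}, u * v = v * u → φ u * φ v = φ v * φ u := fun e => by
    rw [← map_mul, e, map_mul]
  have s : ∀ {u : Y}, u * u = 1 → φ u * φ u = 1 := fun e => by rw [← map_mul, e, map_one]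
  have h5 := e4_V2 (s (q 1)) (s (q 0)) (m c) (fun e => n 1 (hφ (e.trans (map_one _).symm)))
    (fun e => n 0 (hφ (e.trans (map_one _).symm))) (hφ.ne d)
  have h6 : V2 (φ (D.δ (vv 1))) (φ (D.δ (vv 0))) ≤ centralizer (zpowers (φ D.a) : Set _) := by
    rw [centralizer_zpowers_eq]
    exact V2_le (mem_centralizer_singleton_iff.2 (m (D.aδ _).symm))
      (mem_centralizer_singleton_iff.2 (m (D.aδ _).symm))
  refine cent_three (x := φ x) ((orderOf_injective φ hφ x).trans (((Nat.dvd_prime Nat.prime_three).1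
    ((D.X.orderOf_dvd_natCard hx).trans h3)).resolve_left fun e => x1 (orderOf_eq_one_iff.1 e)))
    (h5.sup_of_not_le (El.zpowers (s D.a2)) (fun u hu v hv => (h6 hu v hv).symm) fun e => D.aJ ?_)
    (sup_le (V2_le (mem_centralizer_singleton_iff.2 (m h2)) (mem_centralizer_singleton_iff.2 (m h4)))
      (zpowers_le.2 (mem_centralizer_singleton_iff.2 (m h1))))
  have := D.Jn
  exact (mem_map_iff_mem hφ).1 ((V2_le (mem_map_of_mem φ (D.δ_mem D.cJ _))
    (mem_map_of_mem φ D.cJ)) (e (mem_zpowers _)))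

theorem main : Nat.card D.X ∣ 3 ∧ (∀ x ∈ D.X, D.a * x * D.a⁻¹ = x⁻¹) ∧
    ∀ x ∈ D.X, D.δ (sr 1) * x * (D.δ (sr 1))⁻¹ = x⁻¹ := by
  by_cases hb : D.X = ⊥
  · simp [hb]
  obtain ⟨f⟩ := D.cases.resolve_right fun h => hb (D.small h)
  obtain ⟨h1, h2⟩ := D.seven f
  have h3 := @cent_or_inv _ _ _ _ h1
  have hc : ∀ x ∈ D.X, D.δ (r 2) * x * (D.δ (r 2))⁻¹ = x := fun x hx => by
    rw [show (r 2 : DihedralGroup 4) = r 1 * r 1 from rfl, map_mul, mul_inv_rev,
      show ∀ g : Y, g * g * x * (g⁻¹ * g⁻¹) = g * (g * x * g⁻¹) * g⁻¹ from fun g => by group]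
    rcases h3 (D.δX (r 1)) with h | h
    · rw [h x hx, h x hx]
    · rw [h x hx, h _ (inv_mem hx), inv_inv]
  have hv : ∀ {g s}, g ∈ normalizer (D.X : Set Y) → D.Mv g (r 2) s → ∀ x ∈ D.X,
      D.δ s * x = x * D.δ s := fun {g s} hg e x hx => by
    rw [← e, ← mul_inv_eq_iff_eq_mul, show g * D.δ (r 2) * g⁻¹ * x * (g * D.δ (r 2) * g⁻¹)⁻¹ =
      g * (D.δ (r 2) * (g⁻¹ * x * g) * (D.δ (r 2))⁻¹) * g⁻¹ by group,
      hc _ (mem_normalizer_conj' hg hx)]
    group
  refine ⟨h1, (h3 D.aX).resolve_left fun h => hb (eq_bot_iff.2 fun x hx => h2 x hx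
    (mul_inv_eq_iff_eq_mul.1 (h x hx)) (hv D.e_X (D.ac_e 0) x hx) (mul_inv_eq_iff_eq_mul.1 (hc x hx))),
    (h3 (D.δX _)).resolve_left fun h => hb (D.eq_bot fun x hx => ?_)⟩
  rintro _ ⟨s, rfl⟩
  obtain ⟨i, j, rfl⟩ := (by decide : ∀ s : DihedralGroup 4, ∃ i j : Fin 4,
    s = sr 1 ^ i.1 * (sr 1 * sr 2) ^ j.1) s
  have k1 : Commute (D.δ (sr 1)) x := mul_inv_eq_iff_eq_mul.1 (h x hx)
  have k2 : Commute (D.δ (sr 2)) x := hv D.σX D.σc x hx
  simp only [map_mul, map_pow]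
  exact (k1.pow_left _).mul_left ((k1.mul_left k2).pow_left _)

/-- An invariant subgroup of odd order centralized by `a` is trivial. -/
theorem eq_bot_of_cent {U : Subgroup Y} (hU : Odd (Nat.card U))
    (hb : D.δ (sr 0) ∈ normalizer (U : Set Y)) (hc : D.δ (r 2) ∈ normalizer (U : Set Y))
    (ha : U ≤ centralizer {D.a}) : U = ⊥ := by
  have q : ∀ i, D.δ (vv i) * D.δ (vv i) = 1 := fun i => by
    rw [← map_mul, (by decide : ∀ i, vv i * vv i = 1), map_one]
  have n : ∀ i, D.δ (vv i) ≠ 1 := fun i e => (by decide : ∀ i, vv i ≠ 1) i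
    (D.inj (e.trans (map_one _).symm))
  have c : D.δ (vv 1) * D.δ (vv 0) = D.δ (vv 0) * D.δ (vv 1) := by rw [← map_mul, ← map_mul]; rfl
  have k : ∀ {g s}, g ∈ normalizer (D.X : Set Y) → D.Mv g (r 2) s →
      U ⊓ centralizer {D.δ s} ≤ D.X := fun {g s} hg e y hy => by
    have h1 := mem_normalizer_conj hg (D.mem_X (y := g⁻¹ * y * g) (mem_cj.1 (by
      rw [cj_centralizer_sing, e]; exact hy.2)) (by
        rw [show orderOf (g⁻¹ * y * g) = _ from (MulAut.conj g).symm.orderOf_eq y]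
        exact hU.of_dvd_nat (U.orderOf_dvd_natCard hy.1)))
    simpa [mul_assoc] using h1
  have h1 : U ≤ D.X := (e4_V2 (q 1) (q 0) c (n 1) (n 0) (D.inj.ne (by decide))).le_of_forall hU
    (V2_le hb hc) fun v hv v1 => by
      rcases Bender.mem_closure_pair_of_commute (q 1) (q 0) c hv with e | e | e | e
      · exact absurd e v1
      · exact e ▸ k D.e_X (D.ac_e 0)
      · exact e ▸ k (one_mem _) (by simp [Mv, vv])
      · rw [e, ← map_mul]; exact k D.σX D.σc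
  refine eq_bot_iff.2 fun x hx => Bender.eq_one_of_mem_of_odd hU hx (mul_eq_one_iff_eq_inv.2 ?_)
  rw [← D.main.2.1 x (h1 hx), ← mem_centralizer_singleton_iff.1 (ha hx), mul_inv_cancel_right]

end DH

end Cfsg.Lib.A10T
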